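import Mathlib

/-!
# Étaleness along a section from the conormal modules
-/

set_option autoImplicit false
set_option linter.style.haveILetI false
universe u

open IsLocalRing TensorProduct KaehlerDifferential

namespace Groth.Agent.SectEtaleLib

variable {A B₁ B₂ : Type u} [CommRing A] [CommRing B₁] [CommRing B₂] [Algebra A B₁] [Algebra A B₂] [Algebra B₂ B₁]
  [IsScalarTower A B₂ B₁]
  (σ₁ : B₁ →ₐ[A] A) (σ₂ : B₂ →ₐ[A] A)
  (hσ : σ₁.comp (IsScalarTower.toAlgHom A B₂ B₁) = σ₂)
  (hle : RingHom.ker σ₂ ≤ (RingHom.ker σ₁).comap (IsScalarTower.toAlgHom A B₂ B₁))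
  (hcot : Function.Bijective
    (Ideal.mapCotangent (RingHom.ker σ₂) (RingHom.ker σ₁) (IsScalarTower.toAlgHom A B₂ B₁) hle))

section Derivations

variable {k : Type u} [CommRing k] [Algebra A k] [Algebra B₁ k] [IsScalarTower A B₁ k] [Algebra B₂ k]
  [IsScalarTower A B₂ k] [IsScalarTower B₂ B₁ k]

theorem sub_mem_ker (σ : B₁ →ₐ[A] A) (x : B₁) : x - algebraMap A B₁ (σ x) ∈ RingHom.ker σ := by
  rw [RingHom.mem_ker, map_sub, σ.commutes]
  exact sub_self _

include hcot in
/-- A derivation of `B₁` into a module through the section vanishes if it does on `B₂`. -/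
theorem derivation_eq_zero (hk : ∀ x ∈ RingHom.ker σ₁, algebraMap B₁ k x = 0) (D : Derivation A B₁ k)
    (h : ∀ b : B₂, D (algebraMap B₂ B₁ b) = 0) : D = 0 := by
  ext x
  have hsq : ∀ y ∈ RingHom.ker σ₁ ^ 2, D y = 0 := by
    intro y hy
    rw [pow_two] at hy
    refine Submodule.mul_induction_on hy (fun a ha b hb => ?_) (fun a b ha hb => ?_)
    · rw [D.leibniz, Algebra.smul_def, Algebra.smul_def, hk a ha, hk b hb, zero_mul, zero_mul, add_zero]
    · rw [map_add, ha, hb, add_zero]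
  obtain ⟨w, hw⟩ := hcot.2 ((RingHom.ker σ₁).toCotangent ⟨_, sub_mem_ker σ₁ x⟩)
  obtain ⟨⟨v, hv⟩, rfl⟩ := (RingHom.ker σ₂).toCotangent_surjective w
  rw [Ideal.mapCotangent_toCotangent, Ideal.toCotangent_eq] at hw
  have h1 := hsq _ hw
  have h2 : D (algebraMap B₂ B₁ v) = 0 := h v
  simp only [map_sub] at h1
  rw [IsScalarTower.coe_toAlgHom', h2, D.map_algebraMap, sub_zero, zero_sub, neg_eq_zero] at h1
  simpa using h1

include hσ hcot in
/-- A derivation of `B₂` into a module through the section extends to `B₁`. -/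
theorem exists_derivation (hk : ∀ x ∈ RingHom.ker σ₁, algebraMap B₁ k x = 0) (D₂ : Derivation A B₂ k) :
    ∃ D : Derivation A B₁ k, ∀ b : B₂, D (algebraMap B₂ B₁ b) = D₂ b := by
  have hk1 : ∀ x : B₁, algebraMap B₁ k x = algebraMap A k (σ₁ x) := fun x => by
    have := hk _ (sub_mem_ker σ₁ x)
    rwa [map_sub, ← IsScalarTower.algebraMap_apply, sub_eq_zero] at this
  have hk2 : ∀ x ∈ RingHom.ker σ₂, algebraMap B₂ k x = 0 := fun x hx => by
    rw [IsScalarTower.algebraMap_apply B₂ B₁ k]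
    exact hk _ (hle hx)
  let l0 : (RingHom.ker σ₂ : Ideal B₂) →ₗ[A] k :=
    D₂.toLinearMap.comp (((RingHom.ker σ₂).subtype).restrictScalars A)
  let l1 : (RingHom.ker σ₂).Cotangent →ₗ[A] k := Ideal.Cotangent.lift l0 fun x y => by
    show D₂ ((x : B₂) * (y : B₂)) = 0
    rw [D₂.leibniz, Algebra.smul_def, Algebra.smul_def, hk2 _ x.2, hk2 _ y.2, zero_mul, zero_mul, add_zero]
  let e := LinearEquiv.ofBijective _ hcot
  let pr : B₁ →ₗ[A] (RingHom.ker σ₁ : Ideal B₁) :=
    (LinearMap.id - (Algebra.linearMap A B₁).comp σ₁.toLinearMap).codRestrict ((RingHom.ker σ₁).restrictScalars A)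
      (fun x => sub_mem_ker σ₁ x)
  let L : B₁ →ₗ[A] k := (l1.comp e.symm.toLinearMap).comp (((RingHom.ker σ₁).toCotangent.restrictScalars A).comp pr)
  have hval : ∀ b : B₂, L (algebraMap B₂ B₁ b) = D₂ b := by
    intro b
    have hσb : σ₁ (algebraMap B₂ B₁ b) = σ₂ b := by rw [← hσ]; rfl
    have hmem : b - algebraMap A B₂ (σ₂ b) ∈ RingHom.ker σ₂ := by
      rw [RingHom.mem_ker, map_sub, σ₂.commutes]; exact sub_self _
    have h1 : (RingHom.ker σ₁).toCotangent (pr (algebraMap B₂ B₁ b)) =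
        e ((RingHom.ker σ₂).toCotangent ⟨_, hmem⟩) := by
      show _ = Ideal.mapCotangent _ _ _ hle _
      rw [Ideal.mapCotangent_toCotangent]
      congr 1
      refine Subtype.ext ?_
      show algebraMap B₂ B₁ b - algebraMap A B₁ (σ₁ (algebraMap B₂ B₁ b)) = algebraMap B₂ B₁ (b - algebraMap A B₂ (σ₂ b))
      rw [map_sub, hσb, ← IsScalarTower.algebraMap_apply]
    show l1 (e.symm ((RingHom.ker σ₁).toCotangent (pr (algebraMap B₂ B₁ b)))) = _
    rw [h1, LinearEquiv.symm_apply_apply]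
    rw [Ideal.Cotangent.lift_toCotangent]
    show D₂ (b - algebraMap A B₂ (σ₂ b)) = _
    rw [map_sub, D₂.map_algebraMap, sub_zero]
  refine ⟨Derivation.mk' L (fun x y => ?_), hval⟩
  have hpr : (RingHom.ker σ₁).toCotangent (pr (x * y)) =
      σ₁ x • (RingHom.ker σ₁).toCotangent (pr y) + σ₁ y • (RingHom.ker σ₁).toCotangent (pr x) := by
    rw [show σ₁ x • (RingHom.ker σ₁).toCotangent (pr y) = (RingHom.ker σ₁).toCotangent (σ₁ x • pr y) from
        (((RingHom.ker σ₁).toCotangent.restrictScalars A).map_smul _ _).symm,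
      show σ₁ y • (RingHom.ker σ₁).toCotangent (pr x) = (RingHom.ker σ₁).toCotangent (σ₁ y • pr x) from
        (((RingHom.ker σ₁).toCotangent.restrictScalars A).map_smul _ _).symm, ← map_add, Ideal.toCotangent_eq]
    show (x * y - algebraMap A B₁ (σ₁ (x * y))) -
      ((σ₁ x • (y - algebraMap A B₁ (σ₁ y))) + (σ₁ y • (x - algebraMap A B₁ (σ₁ x)))) ∈ _
    rw [show (x * y - algebraMap A B₁ (σ₁ (x * y))) -
        ((σ₁ x • (y - algebraMap A B₁ (σ₁ y))) + (σ₁ y • (x - algebraMap A B₁ (σ₁ x)))) =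
        (x - algebraMap A B₁ (σ₁ x)) * (y - algebraMap A B₁ (σ₁ y)) by
      simp only [Algebra.smul_def, map_mul]; ring, pow_two]
    exact Ideal.mul_mem_mul (sub_mem_ker σ₁ x) (sub_mem_ker σ₁ y)
  show l1 (e.symm ((RingHom.ker σ₁).toCotangent (pr (x * y)))) = _
  rw [hpr, map_add, map_add, LinearEquiv.map_smul, LinearEquiv.map_smul, map_smul, map_smul]
  rw [Algebra.smul_def, Algebra.smul_def, Algebra.smul_def, Algebra.smul_def, hk1 x, hk1 y]
  rfl

end Derivations

variable [Algebra.FinitePresentation A B₁] [Algebra.FiniteType A B₂]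

include hσ hcot in
theorem isEtaleAt_of_bijective_mapCotangent (P : Ideal B₁) [P.IsPrime] (hP : RingHom.ker σ₁ ≤ P)
    [Algebra.IsSmoothAt A P] : Algebra.IsEtaleAt B₂ P := by
  let T := Localization.AtPrime P
  haveI : Algebra.FormallySmooth A T := ‹Algebra.IsSmoothAt A P›
  haveI : Algebra.EssFiniteType A T := Algebra.EssFiniteType.comp A B₁ T
  haveI : Module.Free T Ω[T⁄A] := Module.free_of_flat_of_isLocalRing
  let f := mapBaseChange A B₂ T
  let k := ResidueField T
  have hk : ∀ x ∈ RingHom.ker σ₁, algebraMap B₁ k x = 0 := fun x hx => by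
    rw [IsScalarTower.algebraMap_apply B₁ T k]
    refine (residue_eq_zero_iff _).mpr ?_
    exact (IsLocalization.AtPrime.to_map_mem_maximal_iff T P x).mpr (hP hx)
  have hbij : Function.Bijective (f.baseChange k) := by
    rw [← LinearMap.dualMap_bijective_iff]
    constructor
    · rw [injective_iff_map_eq_zero]
      intro φ hφ
      let Φ : Ω[T⁄A] →ₗ[T] k := (φ.restrictScalars T).comp (TensorProduct.mk T k Ω[T⁄A] 1)
      let D₁ : Derivation A B₁ k := (Φ.compDer (D A T)).compAlgebraMap B₁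
      have hD : D₁ = 0 := derivation_eq_zero σ₁ σ₂ hle hcot hk D₁ fun b => by
        have h := congrArg (fun g : Module.Dual k (k ⊗[T] (T ⊗[B₂] Ω[B₂⁄A])) => g (1 ⊗ₜ (1 ⊗ₜ D A B₂ b))) hφ
        simp only [LinearMap.dualMap_apply, LinearMap.baseChange_tmul, f, mapBaseChange_tmul, one_smul, map_D,
          LinearMap.zero_apply] at h
        show φ (1 ⊗ₜ D A T (algebraMap B₁ T (algebraMap B₂ B₁ b))) = 0
        rw [← IsScalarTower.algebraMap_apply]
        exact h
      let eT := KaehlerDifferential.tensorKaehlerEquivOfFormallyEtale A B₁ T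
      haveI : Algebra.FormallyEtale B₁ T := .of_isLocalization P.primeCompl
      have hΦ : Φ = 0 := by
        have hc : Φ.comp (eT.toLinearMap) = 0 := by
          ext b
          show Φ (eT (1 ⊗ₜ D A B₁ b)) = 0
          rw [show eT (1 ⊗ₜ D A B₁ b) = D A T (algebraMap B₁ T b) by
            rw [tensorKaehlerEquivOfFormallyEtale_apply, mapBaseChange_tmul, one_smul, map_D]]
          exact DFunLike.congr_fun hD b
        refine LinearMap.ext fun w => ?_
        obtain ⟨w, rfl⟩ := eT.surjective w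
        exact LinearMap.congr_fun hc w
      refine LinearMap.ext fun z => ?_
      obtain ⟨w, rfl⟩ := TensorProduct.mk_surjective T _ k residue_surjective z
      exact LinearMap.congr_fun hΦ w
    · intro ψ
      let D₂ : Derivation A B₂ k := (((ψ.restrictScalars B₂).comp
        ((TensorProduct.mk T k (T ⊗[B₂] Ω[B₂⁄A]) 1).restrictScalars B₂)).comp
          (TensorProduct.mk B₂ T Ω[B₂⁄A] 1)).compDer (D A B₂)
      obtain ⟨D₁, hD₁⟩ := exists_derivation σ₁ σ₂ hσ hle hcot hk D₂
      haveI : Algebra.FormallyEtale B₁ T := .of_isLocalization P.primeCompl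
      let eT := KaehlerDifferential.tensorKaehlerEquivOfFormallyEtale A B₁ T
      let Φ : Ω[T⁄A] →ₗ[T] k := (D₁.liftKaehlerDifferential.liftBaseChange T).comp eT.symm.toLinearMap
      refine ⟨Φ.liftBaseChange k, ?_⟩
      ext b
      show Φ.liftBaseChange k (f.baseChange k (1 ⊗ₜ (1 ⊗ₜ D A B₂ b))) = ψ (1 ⊗ₜ (1 ⊗ₜ D A B₂ b))
      rw [LinearMap.baseChange_tmul, LinearMap.liftBaseChange_tmul, one_smul,
        show f ((1 : T) ⊗ₜ D A B₂ b) = D A T (algebraMap B₁ T (algebraMap B₂ B₁ b)) by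
          simp only [f, mapBaseChange_tmul, one_smul, map_D, ← IsScalarTower.algebraMap_apply]]
      show (D₁.liftKaehlerDifferential.liftBaseChange T) (eT.symm (D A T (algebraMap B₁ T (algebraMap B₂ B₁ b)))) = _
      rw [tensorKaehlerEquivOfFormallyEtale_symm_D_algebraMap, LinearMap.liftBaseChange_tmul, one_smul,
        Derivation.liftKaehlerDifferential_comp_D, hD₁]
      rfl
  obtain ⟨l, hl⟩ := (IsLocalRing.split_injective_iff_lTensor_residueField_injective f).mpr hbij.1
  have hfi : Function.Injective f := Function.LeftInverse.injective (DFunLike.congr_fun hl)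
  have hfs : Function.Surjective f := by
    rw [← LinearMap.range_eq_top]
    refine IsLocalRing.map_tensorProduct_mk_eq_top.mp (eq_top_iff.mpr ?_)
    intro y _
    obtain ⟨z, rfl⟩ := hbij.2 y
    obtain ⟨x, rfl⟩ := TensorProduct.mk_surjective T _ k residue_surjective z
    exact ⟨f x, ⟨x, rfl⟩, (LinearMap.baseChange_tmul _ _ _).symm⟩
  refine ⟨?_, ?_⟩
  · refine ⟨fun a b => ?_⟩
    obtain ⟨a, rfl⟩ := KaehlerDifferential.map_surjective A B₂ T a
    obtain ⟨b, rfl⟩ := KaehlerDifferential.map_surjective A B₂ T b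
    obtain ⟨a, rfl⟩ := hfs a
    obtain ⟨b, rfl⟩ := hfs b
    rw [(exact_mapBaseChange_map A B₂ T).apply_apply_eq_zero, (exact_mapBaseChange_map A B₂ T).apply_apply_eq_zero]
  · refine ⟨fun a b => ?_⟩
    have h0 : ∀ a : Algebra.H1Cotangent B₂ T, a = 0 := fun a => by
      have ha : Algebra.H1Cotangent.δ A B₂ T a = 0 :=
        hfi (((Algebra.H1Cotangent.exact_δ_mapBaseChange A B₂ T).apply_apply_eq_zero a).trans (map_zero f).symm)
      obtain ⟨c, rfl⟩ := (Algebra.H1Cotangent.exact_map_δ A B₂ T a).mp ha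
      rw [Subsingleton.elim c 0, map_zero]
    rw [h0 a, h0 b]

end Groth.Agent.SectEtaleLib
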